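/-
The wreathed Sylow 2-subgroup of `Sp_4(q)`, `q` odd.
-/
import Cfsg.Agent.Lib.Fusion.PSp4.Model
import Cfsg.Agent.Lib.Classical.SpOrder

set_option autoImplicit false

namespace CfsgLib.Fusion.PSp4

open Matrix CfsgLib.Fusion.PSL2 CfsgLib.Classical CfsgLib.Classical.SL2Q

variable {F : Type*} [Field F]

local notation "SL2" => Matrix.SpecialLinearGroup (Fin 2) F
local notation "Sp4" => Matrix.symplecticGroup (Fin 2) F

/-- A Sylow 2-subgroup of `SL_2(F)` in standard position. -/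
structure QData (Q : Subgroup SL2) (j : SL2) : Prop where
  isPGroup : IsPGroup 2 Q
  odd_index : Odd Q.index
  wM_mem : wM ∈ Q
  j_mem : j ∈ Q
  flip : IsFlip j
  cases : ∀ x ∈ Q, x ∈ torus ∨ IsFlip x

theorem card_mod_four [Fintype F] (hodd : Fintype.card F % 2 = 1) :
    Fintype.card F % 4 = 1 ∨ Fintype.card F % 4 = 3 := by omega

theorem two_ne_zero_of_odd [Fintype F] (hodd : Fintype.card F % 2 = 1) : (2 : F) ≠ 0 := by
  refine Ring.two_ne_zero ?_
  intro h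
  have := FiniteField.even_card_of_char_two h
  omega

theorem odd_index_normalizer_wM [Fintype F] (hodd : Fintype.card F % 2 = 1) :
    Odd (Subgroup.normalizer
      (Subgroup.zpowers (wM : SL2) : Set SL2)).index := by
  have h2 := two_ne_zero_of_odd hodd
  have hc := Subgroup.card_mul_index (Subgroup.normalizer (Subgroup.zpowers (wM : SL2) : Set SL2))
  rw [card_normalizer_wM h2, card_SL_two (q := Fintype.card F) rfl, card_torus_eq h2] at hc
  set q := Fintype.card F with hq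
  have hq1 : 1 < q := Fintype.one_lt_card
  rw [Nat.odd_iff]
  rcases card_mod_four hodd with h | h
  · rw [if_neg (by omega)] at hc
    obtain ⟨m, hm⟩ : ∃ m, q + 1 = 2 * m := ⟨(q + 1) / 2, by omega⟩
    have hmo : m % 2 = 1 := by omega
    have : (Subgroup.normalizer (Subgroup.zpowers (wM : SL2) : Set SL2)).index = q * m := by
      refine Nat.eq_of_mul_eq_mul_left (show 0 < 2 * (q - 1) by omega) ?_
      rw [hc, hm]; ring
    rw [this, Nat.mul_mod, hodd, hmo]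
  · rw [if_pos (by omega)] at hc
    obtain ⟨m, hm⟩ : ∃ m, q - 1 = 2 * m := ⟨(q - 1) / 2, by omega⟩
    have hmo : m % 2 = 1 := by omega
    have : (Subgroup.normalizer (Subgroup.zpowers (wM : SL2) : Set SL2)).index = q * m := by
      refine Nat.eq_of_mul_eq_mul_left (show 0 < 2 * (q + 1) by omega) ?_
      rw [hc, hm]; ring
    rw [this, Nat.mul_mod, hodd, hmo]

theorem exists_QData [Fintype F] (hodd : Fintype.card F % 2 = 1) :
    ∃ (Q : Subgroup SL2) (j : SL2), QData Q j := by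
  have h2 := two_ne_zero_of_odd hodd
  obtain ⟨j, hj⟩ := exists_isFlip (F := F) h2
  set N : Subgroup SL2 := Subgroup.normalizer (Subgroup.zpowers (wM : SL2) : Set SL2)
  have hwN : (wM : SL2) ∈ N := (mem_normalizer_wM h2).2 (Or.inl wM_mem_torus)
  have hjN : j ∈ N := (mem_normalizer_wM h2).2 (Or.inr hj)
  have hp : ∀ g : SL2, g * g = negOne → IsPGroup 2 (Subgroup.zpowers g) := fun g hg =>
    IsPGroup.of_card (n := 2) (by rw [Nat.card_zpowers, orderOf_of_sq_negOne h2 hg]; rfl)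
  have hsup : IsPGroup 2 (Subgroup.zpowers j ⊔ Subgroup.zpowers wM : Subgroup SL2) :=
    IsPGroup.to_sup_of_normal_right' (hp j hj.sq) (hp wM (sq_of_trace_zero wM_trace))
      (Subgroup.zpowers_le.2 hjN)
  have hle : Subgroup.zpowers j ⊔ Subgroup.zpowers wM ≤ N :=
    sup_le (Subgroup.zpowers_le.2 hjN) (Subgroup.zpowers_le.2 hwN)
  obtain ⟨P, hP⟩ := (hsup.comap_subtype (K := N)).exists_le_sylow
  refine ⟨(P : Subgroup N).map N.subtype, j, P.isPGroup'.map _, ?_, ?_, ?_, hj, ?_⟩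
  · rw [Subgroup.index_map, N.ker_subtype, sup_bot_eq, N.range_subtype]
    exact (Nat.odd_iff.2 (Nat.two_dvd_ne_zero.1 P.not_dvd_index)).mul (odd_index_normalizer_wM hodd)
  · exact ⟨⟨wM, hwN⟩, hP (Subgroup.mem_sup_right (Subgroup.mem_zpowers _)), rfl⟩
  · exact ⟨⟨j, hjN⟩, hP (Subgroup.mem_sup_left (Subgroup.mem_zpowers _)), rfl⟩
  · rintro x ⟨y, -, rfl⟩
    exact (mem_normalizer_wM h2).1 y.2

/-- The wreathed product inside `Sp_4(F)`. -/
def wrSub (Q : Subgroup SL2) : Subgroup Sp4 where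
  carrier := {h | ∃ a ∈ Q, ∃ b ∈ Q, h = dd a b ∨ h = dd a b * sw}
  one_mem' := ⟨1, one_mem _, 1, one_mem _, Or.inl dd_one.symm⟩
  mul_mem' := by
    rintro g h ⟨a, ha, b, hb, hg⟩ ⟨a', ha', b', hb', hh⟩
    rcases hg with rfl | rfl <;> rcases hh with rfl | rfl
    · exact ⟨_, mul_mem ha ha', _, mul_mem hb hb', Or.inl (dd_mul _ _ _ _)⟩
    · exact ⟨_, mul_mem ha ha', _, mul_mem hb hb', Or.inr (by rw [← mul_assoc, dd_mul])⟩
    · exact ⟨_, mul_mem ha hb', _, mul_mem hb ha', Or.inr (by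
        rw [mul_assoc, sw_dd, ← mul_assoc, dd_mul])⟩
    · exact ⟨_, mul_mem ha hb', _, mul_mem hb ha', Or.inl (by
        rw [mul_assoc, ← mul_assoc sw, sw_dd, mul_assoc, sw_sq, mul_one, dd_mul])⟩
  inv_mem' := by
    rintro h ⟨a, ha, b, hb, hh⟩
    rcases hh with rfl | rfl
    · exact ⟨_, inv_mem ha, _, inv_mem hb, Or.inl (dd_inv _ _)⟩
    · exact ⟨_, inv_mem hb, _, inv_mem ha, Or.inr (by rw [_root_.mul_inv_rev, sw_inv, dd_inv, sw_dd])⟩

variable {Q : Subgroup (Matrix.SpecialLinearGroup (Fin 2) F)}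

theorem dd_mem_wrSub {a b : SL2} : dd a b ∈ wrSub Q ↔ a ∈ Q ∧ b ∈ Q := by
  constructor
  · rintro ⟨a', ha, b', hb, h | h⟩
    · obtain ⟨rfl, rfl⟩ := dd_inj h
      exact ⟨ha, hb⟩
    · exact absurd h (dd_ne_dd_sw _ _ _ _)
  · rintro ⟨ha, hb⟩
    exact ⟨a, ha, b, hb, Or.inl rfl⟩

theorem sw_mem_wrSub : sw ∈ wrSub Q :=
  ⟨1, one_mem _, 1, one_mem _, Or.inr (by rw [dd_one, one_mul])⟩

theorem card_wrSub [Fintype F] : Nat.card (wrSub Q) = 2 * Nat.card Q ^ 2 := by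
  rw [two_mul, pow_two, ← Nat.card_prod, ← Nat.card_sum]
  refine (Nat.card_congr (Equiv.ofBijective (fun s : (Q × Q) ⊕ (Q × Q) => match s with
    | Sum.inl p => (⟨dd p.1.1 p.2.1, dd_mem_wrSub.2 ⟨p.1.2, p.2.2⟩⟩ : wrSub Q)
    | Sum.inr p => ⟨dd p.1.1 p.2.1 * sw, mul_mem (dd_mem_wrSub.2 ⟨p.1.2, p.2.2⟩) sw_mem_wrSub⟩) ⟨?_, ?_⟩)).symm
  · rintro (⟨a, b⟩ | ⟨a, b⟩) (⟨c, d⟩ | ⟨c, d⟩) h <;> have h' := congrArg Subtype.val h <;>
      simp only at h'
    · exact congrArg Sum.inl (Prod.ext (Subtype.ext (dd_inj h').1) (Subtype.ext (dd_inj h').2))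
    · exact absurd h' (dd_ne_dd_sw _ _ _ _)
    · exact absurd h'.symm (dd_ne_dd_sw _ _ _ _)
    · have h'' := mul_right_cancel h'
      exact congrArg Sum.inr (Prod.ext (Subtype.ext (dd_inj h'').1) (Subtype.ext (dd_inj h'').2))
  · rintro ⟨x, a, ha, b, hb, rfl | rfl⟩
    · exact ⟨Sum.inl (⟨a, ha⟩, ⟨b, hb⟩), rfl⟩
    · exact ⟨Sum.inr (⟨a, ha⟩, ⟨b, hb⟩), rfl⟩

theorem card_sp_four [Fintype F] :
    Nat.card Sp4 = Nat.card SL2 ^ 2 * (Fintype.card F ^ 2 * (Fintype.card F ^ 2 + 1)) := by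
  rw [card_sp, card_SL_two (q := Fintype.card F) rfl, Finset.prod_range_succ, Finset.prod_range_one]
  set q := Fintype.card F
  obtain ⟨r, hr⟩ : ∃ r, q = r + 1 := ⟨q - 1, (Nat.sub_add_cancel Fintype.card_pos).symm⟩
  have e1 : q ^ (2 * (0 + 1)) - 1 = r * (r + 2) := by
    rw [hr, show (r + 1) ^ (2 * (0 + 1)) = r * (r + 2) + 1 by ring, Nat.add_sub_cancel]
  have e2 : q ^ (2 * (1 + 1)) - 1 = r * (r + 2) * (q ^ 2 + 1) := by
    rw [hr, show (r + 1) ^ (2 * (1 + 1)) = r * (r + 2) * ((r + 1) ^ 2 + 1) + 1 by ring, Nat.add_sub_cancel]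
  rw [e1, e2, hr, Nat.add_sub_cancel]
  ring

variable [Fintype F] {j : (Matrix.SpecialLinearGroup (Fin 2) F)}

theorem wrSub_isPGroup (D : QData Q j) : IsPGroup 2 (wrSub Q) := by
  obtain ⟨n, hn⟩ := IsPGroup.iff_card.1 D.isPGroup
  refine IsPGroup.of_card (n := 1 + 2 * n) ?_
  rw [card_wrSub, hn, pow_add, pow_one, ← pow_mul, mul_comm n 2]

theorem wrSub_index_odd (hodd : Fintype.card F % 2 = 1) (D : QData Q j) : Odd (wrSub Q).index := by
  have hc := Subgroup.card_mul_index (wrSub Q)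
  rw [card_wrSub, card_sp_four, ← Subgroup.card_mul_index Q] at hc
  set q := Fintype.card F
  obtain ⟨m, hm⟩ : ∃ m, q ^ 2 + 1 = 2 * m := by
    refine ⟨(q ^ 2 + 1) / 2, ?_⟩
    have : q ^ 2 % 2 = 1 := by rw [Nat.pow_mod, hodd]
    omega
  have hmo : m % 2 = 1 := by
    have : q ^ 2 % 4 = 1 := by
      rcases card_mod_four hodd with h | h <;> rw [Nat.pow_mod, h]
    omega
  have : (wrSub Q).index = Q.index ^ 2 * q ^ 2 * m := by
    refine Nat.eq_of_mul_eq_mul_left (show 0 < 2 * Nat.card Q ^ 2 from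
      Nat.mul_pos two_pos (pow_pos Nat.card_pos 2)) ?_
    rw [hc, hm]; ring
  rw [this]
  exact ((D.odd_index.pow).mul (Nat.odd_iff.2 hodd).pow).mul (Nat.odd_iff.2 hmo)

theorem QData.sylow_max (D : QData Q j) {P : Subgroup SL2} (hP : IsPGroup 2 P) (hQP : Q ≤ P) : P = Q :=
  (D.isPGroup.toSylow (by rw [Nat.two_dvd_ne_zero, ← Nat.odd_iff]; exact D.odd_index)).is_maximal' hP hQP

theorem QData.mem_of_sq (D : QData Q j) {t : SL2} (htN : t ∈ Subgroup.normalizer (Q : Set SL2))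
    (ht : t * t ∈ Q) : t ∈ Q := by
  have hp : IsPGroup 2 (Subgroup.zpowers t) := by
    obtain ⟨k, hk⟩ := D.isPGroup ⟨t * t, ht⟩
    have : t ^ 2 ^ (k + 1) = 1 := by
      rw [pow_succ, mul_comm, pow_mul, pow_two]
      exact congrArg Subtype.val hk
    obtain ⟨n, -, hn⟩ := (Nat.dvd_prime_pow Nat.prime_two).1 (orderOf_dvd_of_pow_eq_one this)
    exact IsPGroup.of_card (n := n) (by rw [Nat.card_zpowers, hn])
  have h := D.sylow_max (IsPGroup.to_sup_of_normal_left' D.isPGroup hp (Subgroup.zpowers_le.2 htN))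
    le_sup_left
  rw [← h]
  exact Subgroup.mem_sup_right (Subgroup.mem_zpowers t)

theorem QData.negOne_mem (D : QData Q j) : (negOne : SL2) ∈ Q := by
  rw [← sq_of_trace_zero (g := (wM : SL2)) wM_trace]
  exact mul_mem D.wM_mem D.wM_mem

/-- An element normalising `Q` and the cyclic group of the quarter turn lies in `Q`. -/
theorem QData.mem_of_normalizes (h2 : (2 : F) ≠ 0) (D : QData Q j) {a : SL2}
    (haQ : a ∈ Subgroup.normalizer (Q : Set SL2))
    (ha : a * wM * a⁻¹ = wM ∨ a * wM * a⁻¹ = negOne * wM) : a ∈ Q := by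
  have key : ∀ t ∈ (torus : Subgroup SL2), t ∈ Subgroup.normalizer (Q : Set SL2) → t ∈ Q := by
    intro t ht htN
    refine D.mem_of_sq htN ?_
    have h := mul_mem ((Subgroup.mem_normalizer_iff.1 htN j).1 D.j_mem) (inv_mem D.j_mem)
    rwa [mul_assoc t, mul_assoc t, D.flip.inverts (inv_mem ht), inv_inv, mul_inv_cancel_right] at h
  rcases ha with ha | ha
  · exact key a (commute_wM_iff.1 (mul_inv_eq_iff_eq_mul.1 ha)) haQ
  · have hf : IsFlip a := isFlip_iff.2 (mul_inv_eq_iff_eq_mul.1 ha)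
    have hjN : j ∈ Subgroup.normalizer (Q : Set SL2) := Subgroup.le_normalizer D.j_mem
    have h := key _ (D.flip.mul_flip hf) (mul_mem hjN haQ)
    have h' := mul_mem (inv_mem D.j_mem) h
    rwa [inv_mul_cancel_left] at h'

end CfsgLib.Fusion.PSp4
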