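/-
Simplicity of the 2-fusion system of `PSp_4(q)`, `q` odd.
-/
import Cfsg.Agent.Lib.Fusion.PSp4.Sylow
import Cfsg.Agent.Lib.Fusion.LocalCrit

set_option autoImplicit false

namespace CfsgLib.Fusion.PSp4

open Matrix CfsgLib.Fusion.PSL2 CfsgLib.Classical CfsgLib.Classical.SL2Q Cfsg Cfsg.FusionSystem

variable {F : Type*} [Field F] [Fintype F]

local notation "SL2" => Matrix.SpecialLinearGroup (Fin 2) F
local notation "Sp4" => Matrix.symplecticGroup (Fin 2) F
local notation "mI" => (spNegOne : Matrix.symplecticGroup (Fin 2) F)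

theorem mem_normalizer_closure {H : Type*} [Group H] [Finite H] {s : Set H} {g : H}
    (hg : ∀ x ∈ s, g * x * g⁻¹ ∈ Subgroup.closure s) :
    g ∈ Subgroup.normalizer (Subgroup.closure s : Set H) := by
  refine conjSub_eq_iff_mem_normalizer.1 ?_
  have hle : conjSub g (Subgroup.closure s) ≤ Subgroup.closure s := by
    rw [conjSub, MonoidHom.map_closure, Subgroup.closure_le]
    rintro _ ⟨x, hx, rfl⟩
    exact hg x hx
  refine Subgroup.eq_of_le_of_card_ge hle (le_of_eq ?_)
  exact (Subgroup.card_map_of_injective (MulAut.conj g).injective).symm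

theorem mI_mul_mI : mI * mI = 1 := by
  rw [← dd_negOne, dd_mul, negOne_sq, dd_one]

theorem mI_comm (x : Sp4) : x * mI = mI * x := Subgroup.mem_center_iff.1 spNegOne_mem_center x

/-- Commuting up to sign. -/
def SignComm (x y : Sp4) : Prop := x * y = y * x ∨ x * y = mI * (y * x)

theorem SignComm.mul {x x' y : Sp4} (h : SignComm x y) (h' : SignComm x' y) : SignComm (x * x') y := by
  rcases h with h | h <;> rcases h' with h' | h'
  · exact Or.inl (by rw [mul_assoc, h', ← mul_assoc, h, mul_assoc])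
  · exact Or.inr (by rw [mul_assoc, h', ← mul_assoc, mI_comm, mul_assoc mI, ← mul_assoc x, h, mul_assoc y])
  · exact Or.inr (by rw [mul_assoc, h', ← mul_assoc, h, mul_assoc, mul_assoc y])
  · refine Or.inl ?_
    rw [mul_assoc, h', ← mul_assoc, mI_comm, mul_assoc mI, ← mul_assoc x, h, mul_assoc mI, ← mul_assoc mI,
      mI_mul_mI, one_mul, mul_assoc y]

theorem exists_commute_adjust {h u t : Sp4} (hh : SignComm h t) (hu : u * t = mI * (t * u)) :
    ∃ u', (u' = 1 ∨ u' = u) ∧ (h * u') * t = t * (h * u') := by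
  rcases hh with hh | hh
  · exact ⟨1, Or.inl rfl, by rw [mul_one, hh]⟩
  · refine ⟨u, Or.inr rfl, ?_⟩
    rw [mul_assoc, hu, ← mul_assoc, mI_comm, mul_assoc mI, ← mul_assoc h, hh, mul_assoc mI,
      ← mul_assoc mI, mI_mul_mI, one_mul, mul_assoc]

theorem sw_zz : sw * zz = mI * (zz * sw : Sp4) := by
  rw [zz, sw_dd, ← dd_negOne, ← mul_assoc, dd_mul, mul_one, negOne_sq]

theorem zz_sw : zz * sw = mI * (sw * zz : Sp4) := by
  rw [sw_zz, ← mul_assoc mI, mI_mul_mI, one_mul]

theorem mI_ne_one (h2 : (2 : F) ≠ 0) : mI ≠ 1 := fun h => h2 ((spNegOne_eq_one_iff (by norm_num)).1 h)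

theorem mI_mul_dd (a b : SL2) : mI * dd a b = dd (negOne * a) (negOne * b) := by
  rw [← dd_negOne, dd_mul]

theorem eq_negOne_mul_ne (h2 : (2 : F) ≠ 0) (b : SL2) : b ≠ negOne * b := fun h =>
  negOne_ne_one h2 (mul_eq_right.1 h.symm)

variable {Q : Subgroup (Matrix.SpecialLinearGroup (Fin 2) F)} {j : (Matrix.SpecialLinearGroup (Fin 2) F)}

theorem QData.j_wM (D : QData Q j) : j * wM = negOne * (wM * j) := by
  rw [isFlip_iff.1 D.flip, mul_assoc]

theorem QData.wM_j (D : QData Q j) : wM * j = negOne * (j * wM) := by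
  rw [D.j_wM, ← mul_assoc negOne, negOne_sq, one_mul]

theorem wM_sq : (wM : SL2) * wM = negOne := sq_of_trace_zero wM_trace

theorem wM_ne_one (h2 : (2 : F) ≠ 0) : (wM : SL2) ≠ 1 := fun h => by
  have h' := wM_sq (F := F)
  rw [h, one_mul] at h'
  exact negOne_ne_one h2 h'.symm

theorem wM_ne_negOne (h2 : (2 : F) ≠ 0) : (wM : SL2) ≠ negOne := fun h => by
  have h' := wM_sq (F := F)
  rw [h, negOne_sq] at h'
  exact negOne_ne_one h2 h'.symm

theorem pm_one (h2 : (2 : F) ≠ 0) (D : QData Q j) {a : SL2} (hi : a * wM = wM * a) (hj : a * j = j * a) :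
    a = 1 ∨ a = negOne := by
  refine eq_of_mul_self h2 ?_
  have h : a⁻¹ * j = a * j := by rw [← D.flip.inverts (commute_wM_iff.1 hi), hj]
  rw [← eq_inv_iff_mul_eq_one]
  exact (mul_right_cancel h).symm

theorem torus_sq_negOne (h2 : (2 : F) ≠ 0) {e : SL2} (he : e ∈ torus) (he2 : e * e = negOne) :
    e = wM ∨ e = negOne * wM := by
  have hsq : e * wM * (e * wM) = 1 := by
    rw [mul_assoc, ← mul_assoc wM e, ← torus_comm he wM_mem_torus, mul_assoc e wM wM, wM_sq,
      ← mul_assoc, he2, negOne_sq]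
  rcases eq_of_mul_self h2 hsq with h | h
  · exact Or.inr (mul_right_cancel (h.trans (by rw [mul_assoc, wM_sq, negOne_sq])))
  · exact Or.inl (mul_right_cancel (h.trans wM_sq.symm))

theorem QData.mI_mem (D : QData Q j) : mI ∈ wrSub Q := by
  rw [← dd_negOne]; exact dd_mem_wrSub.2 ⟨D.negOne_mem, D.negOne_mem⟩

theorem QData.zz_mem (D : QData Q j) : (zz : Sp4) ∈ wrSub Q :=
  dd_mem_wrSub.2 ⟨one_mem _, D.negOne_mem⟩

theorem zz_signComm {s : Sp4} (hs : s ∈ wrSub Q) : SignComm zz s := by
  obtain ⟨a, -, b, -, h | h⟩ := hs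
  · exact Or.inl (by rw [h, zz, dd_mul, dd_mul, one_mul, mul_one, negOne_comm])
  · refine Or.inr ?_
    rw [h, mul_assoc (dd a b), sw_zz, ← mul_assoc (dd a b), mI_comm, mul_assoc mI, ← mul_assoc mI mI,
      mI_mul_mI, one_mul, zz, ← mul_assoc, dd_mul, ← mul_assoc, dd_mul, one_mul, mul_one, negOne_comm]

/-- The centre of the wreathed group modulo `-1`. -/
theorem central_cases (h2 : (2 : F) ≠ 0) (D : QData Q j) {x : Sp4} (hx : x ∈ wrSub Q)
    (hc : ∀ s ∈ wrSub Q, SignComm x s) : x = 1 ∨ x = mI ∨ x = zz ∨ x = mI * zz := by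
  obtain ⟨a, ha, b, hb, h | h⟩ := hx
  · subst h
    have key : ∀ y ∈ Q, a * y = y * a ∧ b * y = y * b := by
      intro y hy
      constructor
      · rcases hc _ (dd_mem_wrSub.2 ⟨hy, one_mem _⟩) with h' | h' <;>
          rw [dd_mul, dd_mul, mul_one, one_mul] at h'
        · exact (dd_inj h').1
        · rw [mI_mul_dd] at h'
          exact absurd (dd_inj h').2 (eq_negOne_mul_ne h2 b)
      · rcases hc _ (dd_mem_wrSub.2 ⟨one_mem _, hy⟩) with h' | h' <;>
          rw [dd_mul, dd_mul, mul_one, one_mul] at h'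
        · exact (dd_inj h').2
        · rw [mI_mul_dd] at h'
          exact absurd (dd_inj h').1 (eq_negOne_mul_ne h2 a)
    have hi := key _ D.wM_mem
    have hj := key _ D.j_mem
    rcases pm_one h2 D hi.1 hj.1 with rfl | rfl <;> rcases pm_one h2 D hi.2 hj.2 with rfl | rfl
    · exact Or.inl dd_one
    · exact Or.inr (Or.inr (Or.inl rfl))
    · refine Or.inr (Or.inr (Or.inr ?_))
      rw [zz, mI_mul_dd, mul_one, negOne_sq]
    · exact Or.inr (Or.inl dd_negOne)
  · subst h
    exfalso
    rcases hc _ (dd_mem_wrSub.2 ⟨D.wM_mem, one_mem _⟩) with h' | h' <;>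
      rw [mul_assoc, sw_dd, ← mul_assoc, dd_mul, ← mul_assoc (dd wM 1), dd_mul, one_mul] at h'
    · exact wM_ne_one h2 (mul_eq_left.1 (dd_inj (mul_right_cancel h')).2)
    · rw [← mul_assoc mI, mI_mul_dd] at h'
      have := (dd_inj (mul_right_cancel h')).2
      rw [negOne_comm] at this
      exact wM_ne_negOne h2 (mul_left_cancel this)

/-! ## The local subgroup -/

/-- The four generators. -/
def rrGens (j : SL2) : Set Sp4 := {zz, sw, dd wM wM, dd j j}

/-- A normal subgroup of the wreathed product used as local subgroup. -/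
def rrSub (j : SL2) : Subgroup Sp4 := Subgroup.closure (rrGens j)

theorem zz_mem_rr : (zz : Sp4) ∈ rrSub j := Subgroup.subset_closure (by simp [rrGens])
theorem sw_mem_rr : (sw : Sp4) ∈ rrSub j := Subgroup.subset_closure (by simp [rrGens])
theorem ddi_mem_rr : (dd wM wM : Sp4) ∈ rrSub j := Subgroup.subset_closure (by simp [rrGens])
theorem ddj_mem_rr : (dd j j : Sp4) ∈ rrSub j := Subgroup.subset_closure (by simp [rrGens])

theorem mI_mem_rr : mI ∈ rrSub j := by
  rw [← dd_negOne, ← wM_sq, ← dd_mul]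
  exact mul_mem ddi_mem_rr ddi_mem_rr

theorem rrSub_le (D : QData Q j) : rrSub j ≤ wrSub Q := by
  rw [rrSub, Subgroup.closure_le]
  rintro x (rfl | rfl | rfl | rfl)
  exacts [D.zz_mem, sw_mem_wrSub, dd_mem_wrSub.2 ⟨D.wM_mem, D.wM_mem⟩, dd_mem_wrSub.2 ⟨D.j_mem, D.j_mem⟩]

theorem gen_cases (D : QData Q j) {x y : SL2} (hx : x = wM ∨ x = j) (hy : y = wM ∨ y = j) :
    x * y = y * x ∨ x * y = negOne * (y * x) := by
  rcases hx with rfl | rfl <;> rcases hy with rfl | rfl
  exacts [Or.inl rfl, Or.inr D.wM_j, Or.inr D.j_wM, Or.inl rfl]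

theorem gen_sq (D : QData Q j) {x : SL2} (hx : x = wM ∨ x = j) : x * x = negOne := by
  rcases hx with rfl | rfl
  exacts [wM_sq, D.flip.sq]

theorem dd_gen_mem_rr {x : SL2} (hx : x = wM ∨ x = j) : dd x x ∈ rrSub j := by
  rcases hx with rfl | rfl
  exacts [ddi_mem_rr, ddj_mem_rr]

theorem uu_mem_normalizer (D : QData Q j) {x : SL2} (hx : x = wM ∨ x = j) :
    dd 1 x ∈ Subgroup.normalizer (rrSub j : Set Sp4) := by
  refine mem_normalizer_closure ?_
  have key : ∀ y : SL2, (y = wM ∨ y = j) →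
      dd 1 x * dd y y * (dd 1 x)⁻¹ ∈ rrSub j := by
    intro y hy
    rw [dd_inv, dd_mul, dd_mul, one_mul, inv_one, mul_one]
    rcases gen_cases D hx hy with h | h
    · rw [h, mul_inv_cancel_right]; exact dd_gen_mem_rr hy
    · rw [h, mul_assoc, mul_inv_cancel_right]
      have : dd y (negOne * y) = zz * dd y y := by rw [zz, dd_mul, one_mul]
      rw [this]
      exact mul_mem zz_mem_rr (dd_gen_mem_rr hy)
  rintro g (rfl | rfl | rfl | rfl)
  · have : dd 1 x * zz * (dd 1 x)⁻¹ = zz := by
      rw [mul_inv_eq_iff_eq_mul, zz, dd_mul, dd_mul, negOne_comm]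
    rw [this]; exact zz_mem_rr
  · have hxi : x⁻¹ = negOne * x :=
      inv_eq_of_mul_eq_one_left (by rw [mul_assoc, gen_sq D hx, negOne_sq])
    have : dd 1 x * sw * (dd 1 x)⁻¹ = dd x x * (mI * zz) * sw := by
      rw [mul_assoc, dd_inv, sw_dd, ← mul_assoc, dd_mul, inv_one, mul_one, one_mul, zz, mI_mul_dd,
        dd_mul, mul_one, negOne_sq, mul_one, hxi, negOne_comm]
    rw [this]
    exact mul_mem (mul_mem (dd_gen_mem_rr hx) (mul_mem mI_mem_rr zz_mem_rr)) sw_mem_rr
  · exact key _ (Or.inl rfl)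
  · exact key _ (Or.inr rfl)

theorem vv_mem_normalizer (h2 : (2 : F) ≠ 0) (D : QData Q j) {x : SL2} (hx : x = wM ∨ x = j) :
    vv h2 x ∈ Subgroup.normalizer (rrSub j : Set Sp4) := by
  refine mem_normalizer_closure ?_
  have key : ∀ y : SL2, (y = wM ∨ y = j) →
      vv h2 x * dd y y * (vv h2 x)⁻¹ ∈ rrSub j := by
    intro y hy
    rcases gen_cases D hx hy with h | h
    · rw [vv_dd h2 h, mul_inv_cancel_right]; exact dd_gen_mem_rr hy
    · have h' : x * y = y * (negOne * x) := by rw [h, ← mul_assoc, ← mul_assoc, negOne_comm]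
      rw [vv_dd h2 h', ← vv_mul, vv_negOne, ← mul_assoc, mul_inv_cancel_right]
      exact mul_mem (dd_gen_mem_rr hy) sw_mem_rr
  rintro g (rfl | rfl | rfl | rfl)
  · rw [vv_zz h2 (gen_sq D hx)]
    exact mul_mem (dd_gen_mem_rr hx) (mul_mem zz_mem_rr sw_mem_rr)
  · rw [vv_comm_sw, mul_inv_cancel_right]; exact sw_mem_rr
  · exact key _ (Or.inl rfl)
  · exact key _ (Or.inr rfl)

theorem wrSub_le_normalizer (D : QData Q j) (hsmall : Q ≤ Subgroup.closure {wM, j}) :
    wrSub Q ≤ Subgroup.normalizer (rrSub j : Set Sp4) := by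
  have hdiag : ∀ y ∈ Q, dd y y ∈ rrSub j := by
    intro y hy
    have : Subgroup.closure {wM, j} ≤
        (rrSub j).comap (ddHom.comp ((MonoidHom.id SL2).prod (MonoidHom.id SL2))) := by
      rw [Subgroup.closure_le]
      rintro z (rfl | rfl)
      exacts [ddi_mem_rr, ddj_mem_rr]
    exact this (hsmall hy)
  have hside : ∀ y ∈ Q, dd 1 y ∈ Subgroup.normalizer (rrSub j : Set Sp4) := by
    intro y hy
    have : Subgroup.closure {wM, j} ≤ (Subgroup.normalizer (rrSub j : Set Sp4)).comap
        (ddHom.comp ((1 : SL2 →* SL2).prod (MonoidHom.id SL2))) := by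
      rw [Subgroup.closure_le]
      rintro z (rfl | rfl)
      exacts [uu_mem_normalizer D (Or.inl rfl), uu_mem_normalizer D (Or.inr rfl)]
    exact this (hsmall hy)
  rintro x ⟨a, ha, b, hb, hab⟩
  have hd : dd a b ∈ Subgroup.normalizer (rrSub j : Set Sp4) := by
    rw [show dd a b = dd a a * dd 1 (a⁻¹ * b) by rw [dd_mul, mul_one, mul_inv_cancel_left]]
    exact mul_mem (Subgroup.le_normalizer (hdiag a ha)) (hside _ (mul_mem (inv_mem ha) hb))
  rcases hab with rfl | rfl
  exacts [hd, mul_mem hd (Subgroup.le_normalizer sw_mem_rr)]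

theorem centralizer_rr (h2 : (2 : F) ≠ 0) (D : QData Q j) {h : Sp4}
    (hc : ∀ r ∈ rrGens j, SignComm h r) : h ∈ rrSub j := by
  have hi : (dd wM wM : Sp4) * dd j j = dd j j * dd wM wM * zz * (mI * zz) := by
    rw [dd_mul, dd_mul, zz, mI_mul_dd, dd_mul, dd_mul, mul_one, negOne_sq, mul_one, mul_one,
      D.wM_j, negOne_comm]
  have hij : (dd wM wM : Sp4) * dd j j = mI * (dd j j * dd wM wM) := by
    rw [dd_mul, dd_mul, mI_mul_dd, D.wM_j]
  have hji : (dd j j : Sp4) * dd wM wM = mI * (dd wM wM * dd j j) := by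
    rw [hij, ← mul_assoc, mI_mul_mI, one_mul]
  have hzd : ∀ y : SL2, (zz : Sp4) * dd y y = dd y y * zz := fun y => by
    rw [zz, dd_mul, dd_mul, one_mul, mul_one, negOne_comm]
  have hsd : ∀ y : SL2, (sw : Sp4) * dd y y = dd y y * sw := fun y => sw_dd y y
  have cz := hc zz (by simp [rrGens])
  have cs := hc sw (by simp [rrGens])
  have ci := hc (dd wM wM) (by simp [rrGens])
  have cj := hc (dd j j) (by simp [rrGens])
  obtain ⟨u1, hu1, e1⟩ := exists_commute_adjust cz sw_zz
  have s1 : SignComm (h * u1) sw ∧ SignComm (h * u1) (dd wM wM) ∧ SignComm (h * u1) (dd j j) := by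
    rcases hu1 with rfl | rfl
    · simp only [mul_one]; exact ⟨cs, ci, cj⟩
    · exact ⟨cs.mul (Or.inl rfl), ci.mul (Or.inl (hsd _)), cj.mul (Or.inl (hsd _))⟩
  obtain ⟨u2, hu2, e2⟩ := exists_commute_adjust s1.1 zz_sw
  have s2 : (h * u1 * u2) * zz = zz * (h * u1 * u2) ∧
      SignComm (h * u1 * u2) (dd wM wM) ∧ SignComm (h * u1 * u2) (dd j j) := by
    rcases hu2 with rfl | rfl
    · simp only [mul_one]; exact ⟨e1, s1.2.1, s1.2.2⟩
    · exact ⟨Commute.mul_left e1 (Commute.refl _), s1.2.1.mul (Or.inl (hzd _)), s1.2.2.mul (Or.inl (hzd _))⟩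
  obtain ⟨u3, hu3, e3⟩ := exists_commute_adjust s2.2.1 hji
  have s3 : (h * u1 * u2 * u3) * zz = zz * (h * u1 * u2 * u3) ∧
      (h * u1 * u2 * u3) * sw = sw * (h * u1 * u2 * u3) ∧ SignComm (h * u1 * u2 * u3) (dd j j) := by
    rcases hu3 with rfl | rfl
    · simp only [mul_one]; exact ⟨s2.1, e2, s2.2.2⟩
    · exact ⟨Commute.mul_left s2.1 (hzd _).symm, Commute.mul_left e2 (hsd _).symm, s2.2.2.mul (Or.inl rfl)⟩
  obtain ⟨u4, hu4, e4⟩ := exists_commute_adjust s3.2.2 hij
  have s4 : (h * u1 * u2 * u3 * u4) * zz = zz * (h * u1 * u2 * u3 * u4) ∧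
      (h * u1 * u2 * u3 * u4) * sw = sw * (h * u1 * u2 * u3 * u4) ∧
      (h * u1 * u2 * u3 * u4) * dd wM wM = dd wM wM * (h * u1 * u2 * u3 * u4) := by
    rcases hu4 with rfl | rfl
    · simp only [mul_one]; exact ⟨s3.1, s3.2.1, e3⟩
    · exact ⟨Commute.mul_left s3.1 (hzd _).symm, Commute.mul_left s3.2.1 (hsd _).symm,
        Commute.mul_left e3 (Commute.refl _)⟩
  obtain ⟨a, b, hab⟩ := exists_dd_of_commute h2 s4.1
  have hk : h * u1 * u2 * u3 * u4 ∈ rrSub j := by
    have hsw := s4.2.1
    rw [hab, sw_dd] at hsw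
    obtain ⟨rfl, -⟩ := dd_inj (mul_right_cancel hsw)
    have e3' := s4.2.2
    have e4' := e4
    rw [hab, dd_mul, dd_mul] at e3'
    rw [hab, dd_mul, dd_mul] at e4'
    rw [hab]
    rcases pm_one h2 D (dd_inj e3').1 (dd_inj e4').1 with rfl | rfl
    · rw [dd_one]; exact one_mem _
    · rw [dd_negOne]; exact mI_mem_rr
  have mem1 : ∀ {u u' : Sp4}, u ∈ rrSub j → (u' = 1 ∨ u' = u) → u' ∈ rrSub j := by
    rintro u u' hu (rfl | rfl)
    exacts [one_mem _, hu]
  have hu := mul_mem (mul_mem (mul_mem (mem1 sw_mem_rr hu1) (mem1 zz_mem_rr hu2))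
    (mem1 ddj_mem_rr hu3)) (mem1 ddi_mem_rr hu4)
  have := mul_mem hk (inv_mem hu)
  rwa [show h * u1 * u2 * u3 * u4 * (u1 * u2 * u3 * u4)⁻¹ = h by group] at this

/-! ## Elements of order three on the quaternion group -/

theorem exists_h0 (h2 : (2 : F) ≠ 0) (D : QData Q j) :
    ∃ h0 : SL2, h0.1 = (2 : F)⁻¹ • (1 + (wM : SL2).1 + j.1 + (wM : SL2).1 * j.1) ∧
      h0 * wM = j * h0 ∧ h0 * j = wM * j * h0 := by
  have hd := det_eq j
  obtain ⟨hf1, hf2⟩ := D.flip
  have hjm : j.1 = !![j.1 0 0, j.1 1 0; j.1 1 0, -j.1 0 0] := by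
    conv_lhs => rw [Matrix.eta_fin_two j.1, hf1, hf2]
  have hdet : ((2 : F)⁻¹ • (1 + (wM : SL2).1 + j.1 + (wM : SL2).1 * j.1)).det = 1 := by
    have hk : (wM : SL2).1 * j.1 = !![-j.1 1 0, j.1 0 0; j.1 0 0, j.1 1 0] := by
      rw [wM_val, hjm, Matrix.mul_fin_two]; simp
    rw [hk, hjm, wM_val, Matrix.det_fin_two]
    simp
    field_simp
    rw [hf1, hf2] at hd
    linear_combination 2 * hd
  refine ⟨⟨_, hdet⟩, rfl, ?_, ?_⟩
  · refine Subtype.ext ?_
    change (2 : F)⁻¹ • (1 + (wM : SL2).1 + j.1 + (wM : SL2).1 * j.1) * (wM : SL2).1 =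
      j.1 * ((2 : F)⁻¹ • (1 + (wM : SL2).1 + j.1 + (wM : SL2).1 * j.1))
    have hi2 := neg_sq_val (wM_sq (F := F))
    have hj2 := neg_sq_val D.flip.sq
    have hji : j.1 * (wM : SL2).1 = -((wM : SL2).1 * j.1) := by
      rw [← val_mul, D.j_wM, negOne_mul_val, val_mul]
    rw [Matrix.smul_mul, Matrix.mul_smul]
    simp only [add_mul, mul_add, one_mul, mul_one, mul_assoc, hi2, hj2, hji]
    simp only [← mul_assoc, hji, hi2, hj2, neg_mul, mul_neg, one_mul, mul_one, neg_neg]
    simp only [mul_assoc, hj2, hi2, mul_neg, mul_one]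
    module
  · refine Subtype.ext ?_
    change (2 : F)⁻¹ • (1 + (wM : SL2).1 + j.1 + (wM : SL2).1 * j.1) * j.1 =
      (wM : SL2).1 * j.1 * ((2 : F)⁻¹ • (1 + (wM : SL2).1 + j.1 + (wM : SL2).1 * j.1))
    have hi2 := neg_sq_val (wM_sq (F := F))
    have hj2 := neg_sq_val D.flip.sq
    have hji : j.1 * (wM : SL2).1 = -((wM : SL2).1 * j.1) := by
      rw [← val_mul, D.j_wM, negOne_mul_val, val_mul]
    rw [Matrix.smul_mul, Matrix.mul_smul]
    simp only [add_mul, mul_add, one_mul, mul_one, mul_assoc, hi2, hj2, hji, mul_neg, neg_neg]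
    simp only [← mul_assoc, hji, hi2, hj2, neg_mul, mul_neg, one_mul, mul_one, neg_neg]
    module

/-! ## The fusion system -/

variable {G : Type*} [Group G] [Finite G] {f : (Matrix.symplecticGroup (Fin 2) F) →* G}

theorem isSimple_aux (hodd : Fintype.card F % 2 = 1) (D : QData Q j) (hf : Function.Surjective f)
    (hker : ∀ x, f x = 1 ↔ x = 1 ∨ x = mI) (S : Sylow 2 G)
    (hS : (S : Subgroup G) = (wrSub Q).map f) :
    (groupFusionSystem (S : Subgroup G)).IsSimple 2 := by
  have h2 := two_ne_zero_of_odd hodd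
  have hmI : f mI = 1 := (hker _).2 (Or.inr rfl)
  have feq : ∀ {x y : Sp4}, f x = f y → x = y ∨ x = mI * y := by
    intro x y h
    have : f (x * y⁻¹) = 1 := by rw [map_mul, map_inv, h, mul_inv_cancel]
    exact ((hker _).1 this).imp mul_inv_eq_one.1 mul_inv_eq_iff_eq_mul.1
  have hmemS : ∀ x, f x ∈ (S : Subgroup G) ↔ x ∈ wrSub Q := by
    intro x
    refine ⟨fun h => ?_, fun h => hS ▸ Subgroup.mem_map_of_mem f h⟩
    rw [hS] at h
    obtain ⟨y, hy, hxy⟩ := h
    rcases feq hxy.symm with rfl | rfl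
    exacts [hy, mul_mem D.mI_mem hy]
  refine isSimple_groupFusion_of_normalizer S ?_ ?_ ?_
  · intro hbot
    have h : f sw = 1 := by
      rw [← Subgroup.mem_bot, ← hbot, hmemS]; exact sw_mem_wrSub
    rcases (hker _).1 h with h | h
    · refine dd_ne_dd_sw (1 : SL2) 1 1 1 ?_
      rw [dd_one, h, one_mul]
    · refine dd_ne_dd_sw (negOne : SL2) negOne 1 1 ?_
      rw [dd_negOne, dd_one, h, one_mul]
  · -- strongly closed subgroups
    intro T hT
    by_cases hT1 : T = ⊥
    · exact Or.inl hT1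
    refine Or.inr (le_antisymm hT.1 ?_)
    set T' := T.comap f
    have hcl : ∀ x ∈ T', ∀ h : Sp4, h * x * h⁻¹ ∈ wrSub Q → h * x * h⁻¹ ∈ T' := by
      intro x hx h hh
      show f _ ∈ T
      rw [map_mul, map_mul, map_inv]
      refine conj_mem_of_stronglyClosed hT hx (f h) ?_
      rw [← map_inv, ← map_mul, ← map_mul, hmemS]
      exact hh
    have hmI' : mI ∈ T' := by show f mI ∈ T; rw [hmI]; exact one_mem _
    obtain ⟨c, hcT, hc1, hcS⟩ := exists_central_mem_of_stronglyClosed S hT hT1
    obtain ⟨x, rfl⟩ := hf c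
    have hxW : x ∈ wrSub Q := (hmemS x).1 (hT.1 hcT)
    have hxc : ∀ s ∈ wrSub Q, SignComm x s := by
      intro s hs
      have := hcS _ ((hmemS s).2 hs)
      rw [← map_mul, ← map_mul] at this
      exact feq this.symm
    have hzT : (zz : Sp4) ∈ T' := by
      rcases central_cases h2 D hxW hxc with h | h | h | h
      · exact absurd ((hker x).2 (Or.inl h)) hc1
      · exact absurd ((hker x).2 (Or.inr h)) hc1
      · exact h ▸ hcT
      · have := mul_mem hmI' (show x ∈ T' from hcT)
        rwa [h, ← mul_assoc, mI_mul_mI, one_mul] at this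
    have hwT : (sw : Sp4) ∈ T' := by
      have := hcl zz hzT (cc h2) (by rw [cc_conj]; exact sw_mem_wrSub)
      rwa [cc_conj] at this
    have hskew : ∀ y ∈ Q, dd y y⁻¹ ∈ T' := by
      intro y hy
      have e : dd y 1 * sw * (dd y 1)⁻¹ = dd y y⁻¹ * sw := by
        rw [mul_assoc, dd_inv, sw_dd, ← mul_assoc, dd_mul, inv_one, mul_one, one_mul]
      have := hcl sw hwT (dd y 1) (by
        rw [e]; exact mul_mem (dd_mem_wrSub.2 ⟨hy, inv_mem hy⟩) sw_mem_wrSub)
      rw [e] at this
      exact (Subgroup.mul_mem_cancel_right _ hwT).1 this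
    have hii : dd wM wM ∈ T' := by
      have := mul_mem (hskew _ D.wM_mem) hzT
      rwa [zz, dd_mul, mul_one, ← wM_sq, inv_mul_cancel_left] at this
    have htz : ∀ a ∈ Q, a.1 0 0 + a.1 1 1 = 0 → ∀ b ∈ Q, b.1 0 0 + b.1 1 1 = 0 → dd a b ∈ T' := by
      intro a ha ha0 b hb hb0
      obtain ⟨P, hP⟩ := exists_conj_wM h2 ha0
      obtain ⟨R, hR⟩ := exists_conj_wM h2 hb0
      have e : dd P R * dd wM wM * (dd P R)⁻¹ = dd a b := by
        rw [dd_inv, dd_mul, dd_mul, ← hP, ← hR, mul_inv_cancel_right, mul_inv_cancel_right]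
      have := hcl _ hii (dd P R) (by rw [e]; exact dd_mem_wrSub.2 ⟨ha, hb⟩)
      rwa [e] at this
    have hnt : ∀ g : SL2, g.1 0 0 + g.1 1 1 = 0 → (negOne * g).1 0 0 + (negOne * g).1 1 1 = 0 := by
      intro g hg
      rw [negOne_mul_entry, negOne_mul_entry]
      linear_combination -hg
    have hleft : ∀ y ∈ Q, dd y 1 ∈ T' := by
      intro y hy
      obtain ⟨a, ha, ha0, c, hc, hc0, rfl⟩ : ∃ a, a ∈ Q ∧ a.1 0 0 + a.1 1 1 = 0 ∧
          ∃ c, c ∈ Q ∧ c.1 0 0 + c.1 1 1 = 0 ∧ y = a * c := by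
        rcases D.cases y hy with ht | hfl
        · refine ⟨negOne * j, mul_mem D.negOne_mem D.j_mem, hnt _ D.flip.trace, j * y,
            mul_mem D.j_mem hy, (D.flip.mul_torus ht).trace, ?_⟩
          rw [mul_assoc negOne, ← mul_assoc j, D.flip.sq, ← mul_assoc, negOne_sq, one_mul]
        · refine ⟨y * wM, mul_mem hy D.wM_mem, (hfl.mul_torus wM_mem_torus).trace, negOne * wM,
            mul_mem D.negOne_mem D.wM_mem, hnt _ wM_trace, ?_⟩
          rw [mul_assoc, ← mul_assoc wM, ← negOne_comm, mul_assoc negOne, wM_sq, negOne_sq, mul_one]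
      have := mul_mem (mul_mem (htz a ha ha0 _ D.wM_mem wM_trace) (htz c hc hc0 _ D.wM_mem wM_trace)) hzT
      rwa [dd_mul, zz, dd_mul, mul_one, wM_sq, negOne_sq] at this
    rw [hS, Subgroup.map_le_iff_le_comap]
    rintro s ⟨a, ha, b, hb, hab⟩
    have hright : dd 1 b ∈ T' := by
      have h := mul_mem (mul_mem hwT (hleft b hb)) hwT
      rwa [sw_dd, mul_assoc, sw_sq, mul_one] at h
    have hd : dd a b ∈ T' := by
      have := mul_mem (hleft a ha) hright
      rwa [dd_mul, mul_one, one_mul] at this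
    rcases hab with rfl | rfl
    exacts [hd, mul_mem hd hwT]
  · -- the normaliser
    set C := Subgroup.closure {g : G |
      g ∈ Subgroup.normalizer ((S : Subgroup G) : Set G) ∧ (g ∈ (S : Subgroup G) ∨
        ∃ R : Subgroup G, R ≤ (S : Subgroup G) ∧
          (S : Subgroup G) ≤ Subgroup.normalizer (R : Set G) ∧
          (groupFusionSystem (S : Subgroup G)).IsCentric R ∧
          g ∈ Subgroup.closure
            {h : G | h ∈ Subgroup.normalizer (R : Set G) ∧ ∃ k : ℕ, orderOf h = 2 ^ k})}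
    have hWC : ∀ w ∈ wrSub Q, f w ∈ C := fun w hw => Subgroup.subset_closure
      ⟨Subgroup.le_normalizer ((hmemS w).2 hw), Or.inl ((hmemS w).2 hw)⟩
    have hlift : ∀ h, f h ∈ Subgroup.normalizer ((S : Subgroup G) : Set G) →
        ∀ x, x ∈ wrSub Q ↔ h * x * h⁻¹ ∈ wrSub Q := by
      intro h hh x
      rw [← hmemS, ← hmemS, map_mul, map_mul, map_inv]
      exact Subgroup.mem_normalizer_iff.1 hh (f x)
    have hdiag : ∀ a : SL2, a ∈ Subgroup.normalizer (Q : Set SL2) → f (dd a a) ∈ C := by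
      intro a ha
      by_cases hbig : ∃ x ∈ Q, x ∈ torus ∧ x * x ≠ 1 ∧ x * x ≠ negOne
      · obtain ⟨x, hx, hxt, hx1, hx2⟩ := hbig
        have hy := (Subgroup.mem_normalizer_iff.1 ha x).1 hx
        have hyy : a * x * a⁻¹ * (a * x * a⁻¹) = a * (x * x) * a⁻¹ := by group
        have hyt : a * x * a⁻¹ ∈ torus := by
          refine (D.cases _ hy).resolve_right fun hfl => hx2 ?_
          have h := hfl.sq
          rw [hyy, mul_inv_eq_iff_eq_mul, negOne_comm] at h
          exact mul_left_cancel h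
        have he := (Subgroup.mem_normalizer_iff.1 ha wM).1 D.wM_mem
        have het : a * wM * a⁻¹ ∈ torus := by
          refine (D.cases _ he).resolve_right fun hfl => hx1 ?_
          have h := hfl.inverts hyt
          have hcomm : a * wM * a⁻¹ * (a * x * a⁻¹) = a * x * a⁻¹ * (a * wM * a⁻¹) := by
            rw [show a * wM * a⁻¹ * (a * x * a⁻¹) = a * (wM * x) * a⁻¹ by group,
              torus_comm wM_mem_torus hxt]
            group
          rw [hcomm] at h
          have h' := mul_right_cancel h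
          rw [eq_inv_iff_mul_eq_one, hyy, mul_inv_eq_one] at h'
          exact mul_eq_left.1 h'
        refine hWC _ ?_
        have hsq : a * wM * a⁻¹ * (a * wM * a⁻¹) = negOne := by
          rw [show a * wM * a⁻¹ * (a * wM * a⁻¹) = a * (wM * wM) * a⁻¹ by group, wM_sq, ← negOne_comm,
            mul_inv_cancel_right]
        have := D.mem_of_normalizes h2 ha (torus_sq_negOne h2 het hsq)
        exact dd_mem_wrSub.2 ⟨this, this⟩
      · push Not at hbig
        have htor : ∀ x ∈ Q, x ∈ torus → x = 1 ∨ x = negOne ∨ x = wM ∨ x = negOne * wM := by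
          intro x hx hxt
          by_cases h1 : x * x = 1
          · exact (eq_of_mul_self h2 h1).imp_right Or.inl
          · exact Or.inr (Or.inr (torus_sq_negOne h2 hxt (hbig x hx hxt h1)))
        have hnc : (negOne : SL2) ∈ Subgroup.closure {wM, j} := by
          rw [← wM_sq]
          exact mul_mem (Subgroup.subset_closure (Or.inl rfl)) (Subgroup.subset_closure (Or.inl rfl))
        have htc : ∀ x ∈ Q, x ∈ torus → x ∈ Subgroup.closure {wM, j} := by
          intro x hx hxt
          rcases htor x hx hxt with rfl | rfl | rfl | rfl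
          exacts [one_mem _, hnc, Subgroup.subset_closure (Or.inl rfl),
            mul_mem hnc (Subgroup.subset_closure (Or.inl rfl))]
        have hsmall : Q ≤ Subgroup.closure {wM, j} := by
          intro x hx
          rcases D.cases x hx with ht | hfl
          · exact htc x hx ht
          · have h := htc _ (mul_mem D.j_mem hx) (D.flip.mul_flip hfl)
            exact (Subgroup.mul_mem_cancel_left _ (Subgroup.subset_closure (show j ∈ ({wM, j} : Set SL2) from Or.inr rfl))).1 h
        obtain ⟨h0, hh0, h0i, h0j⟩ := exists_h0 h2 D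
        have hQcl : Q = Subgroup.closure {wM, j} := le_antisymm hsmall (by
          rw [Subgroup.closure_le]
          rintro z (rfl | rfl)
          exacts [D.wM_mem, D.j_mem])
        have hh0N : h0 ∈ Subgroup.normalizer (Q : Set SL2) := by
          rw [hQcl]
          refine mem_normalizer_closure ?_
          rintro z (rfl | rfl)
          · rw [h0i, mul_inv_cancel_right]
            exact Subgroup.subset_closure (Or.inr rfl)
          · rw [h0j, mul_inv_cancel_right]
            exact mul_mem (Subgroup.subset_closure (Or.inl rfl)) (Subgroup.subset_closure (Or.inr rfl))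
        have h0C : f (dd h0 h0) ∈ C := by
          refine Subgroup.subset_closure ⟨?_, Or.inr ⟨(rrSub j).map f, ?_, ?_, ?_, ?_⟩⟩
          · have hd : dd h0 h0 ∈ Subgroup.normalizer (wrSub Q : Set Sp4) := by
              refine conjSub_eq_iff_mem_normalizer.1 ?_
              refine Subgroup.eq_of_le_of_card_ge ?_
                (le_of_eq (Subgroup.card_map_of_injective (MulAut.conj (dd h0 h0)).injective).symm)
              rintro _ ⟨x, ⟨a, ha, b, hb, hab⟩, rfl⟩
              have hd : dd h0 h0 * dd a b * (dd h0 h0)⁻¹ ∈ wrSub Q := by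
                rw [dd_inv, dd_mul, dd_mul, dd_mem_wrSub]
                exact ⟨(Subgroup.mem_normalizer_iff.1 hh0N a).1 ha,
                  (Subgroup.mem_normalizer_iff.1 hh0N b).1 hb⟩
              show dd h0 h0 * x * (dd h0 h0)⁻¹ ∈ wrSub Q
              rcases hab with rfl | rfl
              · exact hd
              · have : dd h0 h0 * sw * (dd h0 h0)⁻¹ = sw := by
                  rw [mul_inv_eq_iff_eq_mul, sw_dd]
                rw [show dd h0 h0 * (dd a b * sw) * (dd h0 h0)⁻¹ =
                  dd h0 h0 * dd a b * (dd h0 h0)⁻¹ * (dd h0 h0 * sw * (dd h0 h0)⁻¹) by group, this]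
                exact mul_mem hd sw_mem_wrSub
            rw [hS]
            exact Subgroup.le_normalizer_map f (Subgroup.mem_map_of_mem f hd)
          · rw [hS]; exact Subgroup.map_mono (rrSub_le D)
          · rw [hS]
            exact (Subgroup.map_mono (wrSub_le_normalizer D hsmall)).trans (Subgroup.le_normalizer_map f)
          · refine ⟨by rw [hS]; exact Subgroup.map_mono (rrSub_le D), fun P hP => ?_⟩
            obtain ⟨-, -, g, rfl⟩ := isConj_groupFusion_iff.1 hP
            intro y hy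
            have hcom := Subgroup.mem_centralizer_iff.1 (Subgroup.mem_inf.1 hy).2
            obtain ⟨h, hh⟩ := hf (g⁻¹ * y * g)
            refine mem_conjSub.2 ?_
            suffices hr : g⁻¹ * y * g ∈ (rrSub j).map f by exact hr
            refine ⟨h, centralizer_rr h2 D fun r hr => ?_, hh⟩
            have hr' : f r ∈ (rrSub j).map f := Subgroup.mem_map_of_mem f (Subgroup.subset_closure hr)
            have h1 := hcom _ (conj_mem_conjSub (g := g) hr')
            refine feq ?_
            rw [map_mul, map_mul, hh]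
            have h1' := congrArg (fun u => g⁻¹ * u * g) h1
            simpa [mul_assoc] using h1'.symm
          · rw [← word_eq h2 wM_sq D.flip.sq D.j_wM hh0]
            simp only [map_mul]
            have hgen : ∀ u : Sp4, u ∈ Subgroup.normalizer (rrSub j : Set Sp4) → u ^ 4 = 1 →
                f u ∈ Subgroup.closure {h : G | h ∈ Subgroup.normalizer ((rrSub j).map f : Set G) ∧
                  ∃ k : ℕ, orderOf h = 2 ^ k} := by
              intro u hu hu4
              refine Subgroup.subset_closure ⟨Subgroup.le_normalizer_map f (Subgroup.mem_map_of_mem f hu), ?_⟩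
              have : f u ^ 2 ^ 2 = 1 := by rw [← map_pow, show (2 : ℕ) ^ 2 = 4 by norm_num, hu4, map_one]
              obtain ⟨k, -, hk⟩ := (Nat.dvd_prime_pow Nat.prime_two).1 (orderOf_dvd_of_pow_eq_one this)
              exact ⟨k, hk⟩
            have hp4 : ∀ x : SL2, (x = wM ∨ x = j) → x ^ 4 = 1 := fun x hx => by
              rw [show 4 = 2 + 2 from rfl, pow_add, pow_two, gen_sq D hx, negOne_sq]
            have hU : ∀ x : SL2, (x = wM ∨ x = j) → (dd 1 x : Sp4) ^ 4 = 1 := fun x hx => by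
              have h := map_pow (ddHom (F := F)) ((1 : SL2), x) 4
              rw [Prod.pow_mk, one_pow, hp4 x hx, Prod.mk_one_one, map_one] at h
              exact h.symm
            have hV : ∀ x : SL2, (x = wM ∨ x = j) → (vv h2 x) ^ 4 = 1 := fun x hx => by
              have h := map_pow (vvHom h2) x 4
              rw [hp4 x hx, map_one] at h
              exact h.symm
            exact mul_mem (mul_mem (mul_mem (mul_mem
              (hgen _ (uu_mem_normalizer D (Or.inl rfl)) (hU _ (Or.inl rfl)))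
              (hgen _ (vv_mem_normalizer h2 D (Or.inl rfl)) (hV _ (Or.inl rfl))))
              (hgen _ (vv_mem_normalizer h2 D (Or.inr rfl)) (hV _ (Or.inr rfl))))
              (hgen _ (uu_mem_normalizer D (Or.inr rfl)) (hU _ (Or.inr rfl))))
              (hgen _ (vv_mem_normalizer h2 D (Or.inl rfl)) (hV _ (Or.inl rfl)))
        have hCQ : ∀ c ∈ Q, f (dd c c) ∈ C := fun c hc => hWC _ (dd_mem_wrSub.2 ⟨hc, hc⟩)
        have he := (Subgroup.mem_normalizer_iff.1 ha wM).1 D.wM_mem
        rcases D.cases _ he with het | hfl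
        · have hsq : a * wM * a⁻¹ * (a * wM * a⁻¹) = negOne := by
            rw [show a * wM * a⁻¹ * (a * wM * a⁻¹) = a * (wM * wM) * a⁻¹ by group, wM_sq, ← negOne_comm,
              mul_inv_cancel_right]
          exact hCQ a (D.mem_of_normalizes h2 ha (torus_sq_negOne h2 het hsq))
        · have hje := htor _ (mul_mem D.j_mem he) (D.flip.mul_flip hfl)
          have hA : ∀ e : SL2, j * (a * wM * a⁻¹) = e → a * wM * a⁻¹ = negOne * (j * e) := fun e h => by
            rw [← h, ← mul_assoc j, D.flip.sq, ← mul_assoc, negOne_sq, one_mul]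
          have hdown : (a * wM * a⁻¹ = j ∨ a * wM * a⁻¹ = negOne * j) → f (dd a a) ∈ C := by
            intro hcase
            have hc : h0⁻¹ * a ∈ Q := by
              refine D.mem_of_normalizes h2 (mul_mem (inv_mem hh0N) ha) ?_
              have e1 : h0⁻¹ * j * h0 = wM := by rw [mul_assoc, ← h0i, inv_mul_cancel_left]
              rw [show h0⁻¹ * a * wM * (h0⁻¹ * a)⁻¹ = h0⁻¹ * (a * wM * a⁻¹) * h0 by group]
              rcases hcase with h | h
              · exact Or.inl (by rw [h, e1])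
              · refine Or.inr ?_
                rw [h, ← mul_assoc h0⁻¹, ← negOne_comm, mul_assoc negOne, mul_assoc negOne, e1]
            have := mul_mem h0C (hCQ _ hc)
            rwa [← map_mul, dd_mul, mul_inv_cancel_left] at this
          have hup : (a * wM * a⁻¹ = wM * j ∨ a * wM * a⁻¹ = negOne * (wM * j)) → f (dd a a) ∈ C := by
            intro hcase
            have hc : h0 * a ∈ Q := by
              refine D.mem_of_normalizes h2 (mul_mem hh0N ha) ?_
              have e1 : h0 * (wM * j) * h0⁻¹ = wM := by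
                rw [← mul_assoc, h0i, mul_assoc j, h0j, ← mul_assoc, mul_inv_cancel_right, ← mul_assoc,
                  D.j_wM, mul_assoc, mul_assoc wM, D.flip.sq, ← negOne_comm, ← mul_assoc, negOne_sq, one_mul]
              rw [show h0 * a * wM * (h0 * a)⁻¹ = h0 * (a * wM * a⁻¹) * h0⁻¹ by group]
              rcases hcase with h | h
              · exact Or.inl (by rw [h, e1])
              · refine Or.inr ?_
                rw [h, ← mul_assoc h0 negOne, ← negOne_comm, mul_assoc negOne h0, mul_assoc negOne, e1]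
            have := mul_mem (inv_mem h0C) (hCQ _ hc)
            rwa [← map_inv, ← map_mul, dd_inv, dd_mul, inv_mul_cancel_left] at this
          rcases hje with h | h | h | h
          · exact hdown (Or.inr (by rw [hA _ h, mul_one]))
          · refine hdown (Or.inl ?_)
            rw [hA _ h, ← negOne_comm, ← mul_assoc, negOne_sq, one_mul]
          · refine hup (Or.inl ?_)
            rw [hA _ h, D.j_wM, ← mul_assoc, negOne_sq, one_mul]
          · refine hup (Or.inr ?_)
            rw [hA _ h, ← mul_assoc j, ← negOne_comm, mul_assoc, ← mul_assoc negOne, negOne_sq, one_mul,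
              D.j_wM]
    have hdd : ∀ a b : SL2, f (dd a b) ∈ Subgroup.normalizer ((S : Subgroup G) : Set G) →
        f (dd a b) ∈ C := by
      intro a b hn
      have hl := hlift _ hn
      have haN : a ∈ Subgroup.normalizer (Q : Set SL2) := by
        refine Subgroup.mem_normalizer_iff.2 fun x => ?_
        have := hl (dd x 1)
        rw [dd_inv, dd_mul, dd_mul, mul_one, mul_inv_cancel, dd_mem_wrSub, dd_mem_wrSub] at this
        simpa [one_mem] using this
      have hb : b * a⁻¹ ∈ Q := by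
        have := (hl sw).1 sw_mem_wrSub
        rw [mul_assoc, dd_inv, sw_dd, ← mul_assoc, dd_mul, Subgroup.mul_mem_cancel_right _ sw_mem_wrSub,
          dd_mem_wrSub] at this
        exact this.2
      have hq : a⁻¹ * b ∈ Q := by
        refine (Subgroup.mem_normalizer_iff.1 haN _).2 ?_
        rwa [mul_inv_cancel_left]
      rw [show dd a b = dd a a * dd 1 (a⁻¹ * b) by rw [dd_mul, mul_one, mul_inv_cancel_left], map_mul]
      exact mul_mem (hdiag a haN) (hWC _ (dd_mem_wrSub.2 ⟨one_mem _, hq⟩))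
    intro g hg
    obtain ⟨h, rfl⟩ := hf g
    have hl := hlift h hg
    have hy : h * zz * h⁻¹ ∈ wrSub Q := (hl zz).1 D.zz_mem
    have hys : ∀ s ∈ wrSub Q, SignComm (h * zz * h⁻¹) s := by
      intro s hs
      have hs' : h⁻¹ * s * h ∈ wrSub Q :=
        (hl _).2 (by rwa [show h * (h⁻¹ * s * h) * h⁻¹ = s by group])
      have hc : ∀ k : Sp4, h * (mI * k) * h⁻¹ = mI * (h * k * h⁻¹) := fun k => by
        simp only [← mul_assoc, mI_comm]
      rcases zz_signComm hs' with e | e
      · refine Or.inl ?_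
        have e' := congrArg (fun u => h * u * h⁻¹) e
        simpa [mul_assoc] using e'
      · refine Or.inr ?_
        have e' := congrArg (fun u => h * u * h⁻¹) e
        simp only [hc] at e'
        simpa [mul_assoc] using e'
    rcases central_cases h2 D hy hys with e | e | e | e
    · rw [mul_inv_eq_one, mul_eq_left] at e
      rw [zz, ← dd_one] at e
      exact absurd (dd_inj e).2 (negOne_ne_one h2)
    · rw [mul_inv_eq_iff_eq_mul, ← mI_comm] at e
      have e' := mul_left_cancel e
      rw [zz, ← dd_negOne] at e'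
      exact absurd (dd_inj e').1.symm (negOne_ne_one h2)
    · obtain ⟨a, b, rfl⟩ := exists_dd_of_commute h2 (mul_inv_eq_iff_eq_mul.1 e)
      exact hdd a b hg
    · obtain ⟨a, b, hab⟩ := exists_dd_of_commute h2 (commute_or_sw (mul_inv_eq_iff_eq_mul.1 e))
      have hh : h = dd a b * sw := by rw [← hab, mul_assoc, sw_sq, mul_one]
      rw [hh, map_mul] at hg ⊢
      have hswS := (hmemS sw).2 (sw_mem_wrSub (Q := Q))
      refine mul_mem (hdd a b ?_) (hWC _ sw_mem_wrSub)
      exact (Subgroup.mul_mem_cancel_right _ (Subgroup.le_normalizer hswS)).1 hg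

/-- **The 2-fusion system of `PSp_4(q)`, `q` odd, is simple.** -/
theorem isSimple_two (hodd : Fintype.card F % 2 = 1) (S : Sylow 2 (Cfsg.PSp 2 F)) :
    (groupFusionSystem (S : Subgroup (Cfsg.PSp 2 F))).IsSimple 2 := by
  obtain ⟨Q, j, D⟩ := exists_QData (F := F) hodd
  let π : Sp4 →* Cfsg.PSp 2 F := QuotientGroup.mk' _
  have hπ : Function.Surjective π := QuotientGroup.mk'_surjective _
  have hW : ¬ 2 ∣ ((wrSub Q).map π).index := fun h => by
    have h1 := h.trans (Subgroup.index_map_dvd _ hπ)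
    have h2' := Nat.odd_iff.1 (wrSub_index_odd hodd D)
    omega
  let P : Sylow 2 (Cfsg.PSp 2 F) := ((wrSub_isPGroup D).map π).toSylow hW
  obtain ⟨g, hg⟩ := MulAction.exists_smul_eq (Cfsg.PSp 2 F) P S
  refine isSimple_aux hodd D (f := (MulAut.conj g).toMonoidHom.comp π)
    ((MulAut.conj g).surjective.comp hπ) (fun x => ?_) S ?_
  · show MulAut.conj g (π x) = 1 ↔ _
    rw [map_eq_one_iff _ (MulAut.conj g).injective]
    exact (QuotientGroup.eq_one_iff x).trans (mem_center_sp_iff x)
  · rw [← hg, ← Subgroup.map_map]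
    rfl

end CfsgLib.Fusion.PSp4
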